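import Cfsg.Agent.Lib.Helper50.CAI.Defs
import Cfsg.Agent.Lib.Helper48.Noncyclic

/-!
# Project CAI (S2202), package [BASIC]

Root facts about a Sylow 2-subgroup `P` of a finite group in which every involution has an
abelian centralizer and the Sylow 2-subgroups are neither cyclic nor normal.
-/

set_option autoImplicit false

namespace Cfsg.Agent.Lib.Helper43.CAI

open Cfsg.Agent.Lib.Helper50.CAI

universe u

section basic

variable {G : Type u} [Group G] [Finite G]

theorem sylow_pow (P : Sylow 2 G) {x : G} (hx : x ∈ (P : Subgroup G)) :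
    ∃ k : ℕ, x ^ 2 ^ k = 1 := by
  obtain ⟨k, hk⟩ := P.isPGroup' ⟨x, hx⟩
  exact ⟨k, by simpa using congrArg Subtype.val hk⟩

theorem fix2_aux (P : Sylow 2 G) (x : G) (hx : x • P = P) (hk : ∃ k : ℕ, x ^ (2 ^ k) = 1) :
    x ∈ (P : Subgroup G) := by
  obtain ⟨k, hk⟩ := hk
  have hN : x ∈ Subgroup.normalizer ((P : Subgroup G) : Set G) :=
    Sylow.smul_eq_iff_mem_normalizer.mp hx
  have hZ : IsPGroup 2 (Subgroup.zpowers x) := by
    rintro ⟨y, hy⟩
    obtain ⟨n, rfl⟩ := Subgroup.mem_zpowers_iff.mp hy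
    refine ⟨k, Subtype.ext ?_⟩
    show (x ^ n) ^ 2 ^ k = 1
    rw [← zpow_natCast, ← zpow_mul, mul_comm, zpow_mul, zpow_natCast, hk, one_zpow]
  have h := hZ.inf_normalizer_sylow P
  have hx' : x ∈ Subgroup.zpowers x ⊓ Subgroup.normalizer ((P : Subgroup G) : Set G) :=
    ⟨Subgroup.mem_zpowers x, hN⟩
  exact (h.le hx').2

theorem smul_eq_of_mem_Cz (P : Sylow 2 G) {c : G} (hc : c ∈ Cz P) : c • P = P :=
  Sylow.smul_eq_iff_mem_normalizer.mpr (Subgroup.centralizer_le_normalizer _ hc)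

theorem mem_smul_sylow (g : G) (P : Sylow 2 G) (x : G) :
    x ∈ ((g • P : Sylow 2 G) : Subgroup G) ↔ g⁻¹ * x * g ∈ (P : Subgroup G) := by
  rw [Sylow.coe_subgroup_smul, Subgroup.mem_pointwise_smul_iff_inv_smul_mem]
  simp [MulAut.smul_def, MulAut.conj_apply]

theorem exists_central_inv (P : Sylow 2 G) (hP : ¬ IsCyclic ↥(P : Subgroup G)) :
    ∃ t ∈ (P : Subgroup G), orderOf t = 2 ∧ ∀ x ∈ (P : Subgroup G), x * t = t * x := by
  haveI : Nontrivial ↥(P : Subgroup G) := by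
    by_contra h
    rw [not_nontrivial_iff_subsingleton] at h
    exact hP isCyclic_of_subsingleton
  haveI := P.isPGroup'.center_nontrivial
  have hZ : IsPGroup 2 (Subgroup.center ↥(P : Subgroup G)) := P.isPGroup'.to_subgroup _
  have h2 : 2 ∣ Nat.card (Subgroup.center ↥(P : Subgroup G)) := by
    rcases hZ.card_eq_or_dvd with h1 | h1
    · have := Finite.one_lt_card (α := ↥(Subgroup.center ↥(P : Subgroup G)))
      omega
    · exact h1
  obtain ⟨z, hz⟩ := exists_prime_orderOf_dvd_card' 2 h2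
  refine ⟨((z : ↥(P : Subgroup G)) : G), (z : ↥(P : Subgroup G)).2, ?_, ?_⟩
  · have h3 : orderOf ((z : ↥(P : Subgroup G)) : G) = orderOf z := by
      rw [Subgroup.orderOf_coe, Subgroup.orderOf_coe]
    rw [h3, hz]
  · intro x hx
    have := Subgroup.mem_center_iff.mp z.2 ⟨x, hx⟩
    exact congrArg Subtype.val this

theorem comm_of_mem_centralizer (h : Hyp G) {t : G} (ht : orderOf t = 2) {x y : G}
    (hx : x ∈ Subgroup.centralizer ({t} : Set G)) (hy : y ∈ Subgroup.centralizer ({t} : Set G)) :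
    x * y = y * x := by
  haveI := h.ca t ht
  have := mul_comm' (⟨x, hx⟩ : ↥(Subgroup.centralizer ({t} : Set G))) ⟨y, hy⟩
  exact congrArg Subtype.val this

theorem mem_centralizer_singleton {t x : G} :
    x ∈ Subgroup.centralizer ({t} : Set G) ↔ t * x = x * t := by
  rw [Subgroup.mem_centralizer_iff]
  constructor
  · intro h; exact h t rfl
  · intro h z hz
    rw [Set.mem_singleton_iff] at hz
    subst hz
    exact h

theorem abelian_aux (h : Hyp G) (P : Sylow 2 G) :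
    ∀ x ∈ (P : Subgroup G), ∀ y ∈ (P : Subgroup G), x * y = y * x := by
  obtain ⟨t, htP, hto, htc⟩ := exists_central_inv P (h.ncyc P)
  intro x hx y hy
  exact comm_of_mem_centralizer h hto (mem_centralizer_singleton.mpr (htc x hx).symm)
    (mem_centralizer_singleton.mpr (htc y hy).symm)

theorem le_aux (h : Hyp G) (P : Sylow 2 G) : (P : Subgroup G) ≤ Cz P := by
  intro x hx
  exact Subgroup.mem_centralizer_iff.mpr (fun p hp => abelian_aux h P p hp x hx)

theorem cent_aux (h : Hyp G) (P : Sylow 2 G) (t : G) (ht : t ∈ (P : Subgroup G))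
    (hto : orderOf t = 2) : Subgroup.centralizer ({t} : Set G) = Cz P := by
  apply le_antisymm
  · intro x hx
    refine Subgroup.mem_centralizer_iff.mpr (fun p hp => ?_)
    exact comm_of_mem_centralizer h hto
      (mem_centralizer_singleton.mpr (abelian_aux h P t ht p hp)) hx
  · exact Subgroup.centralizer_le (Set.singleton_subset_iff.mpr ht)

theorem comm_aux (h : Hyp G) (P : Sylow 2 G) :
    ∀ x ∈ Cz P, ∀ y ∈ Cz P, x * y = y * x := by
  obtain ⟨t, htP, hto, htc⟩ := exists_central_inv P (h.ncyc P)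
  intro x hx y hy
  rw [← cent_aux h P t htP hto] at hx hy
  exact comm_of_mem_centralizer h hto hx hy

/-- The odd-order elements of the abelian group `Cz P`. -/
def oddSub (P : Sylow 2 G) (hc : ∀ x ∈ Cz P, ∀ y ∈ Cz P, x * y = y * x) : Subgroup G where
  carrier := {x | x ∈ Cz P ∧ Odd (orderOf x)}
  mul_mem' := by
    rintro x y ⟨hx, hxo⟩ ⟨hy, hyo⟩
    refine ⟨mul_mem hx hy, ?_⟩
    have hcomm : Commute x y := hc x hx y hy
    have : (x * y) ^ (orderOf x * orderOf y) = 1 := by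
      rw [hcomm.mul_pow, pow_mul, pow_orderOf_eq_one, one_pow, mul_comm (orderOf x), pow_mul,
        pow_orderOf_eq_one, one_pow, one_mul]
    exact Odd.of_dvd_nat (hxo.mul hyo) (orderOf_dvd_of_pow_eq_one this)
  one_mem' := ⟨one_mem _, by simp⟩
  inv_mem' := by
    rintro x ⟨hx, hxo⟩
    exact ⟨inv_mem hx, by rwa [orderOf_inv]⟩

theorem memB_aux (h : Hyp G) (P : Sylow 2 G) (x : G) :
    x ∈ Bz P ↔ x ∈ Cz P ∧ Odd (orderOf x) := by
  have : Bz P = oddSub P (comm_aux h P) := Subgroup.closure_eq (oddSub P (comm_aux h P))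
  rw [this]
  rfl

theorem split_aux (h : Hyp G) (P : Sylow 2 G) (x : G) (hx : x ∈ Cz P) :
    ∃ s ∈ (P : Subgroup G), ∃ b ∈ Bz P, x = s * b := by
  have hn : orderOf x ≠ 0 := (orderOf_pos x).ne'
  obtain ⟨a, m, hm, hnm⟩ := Nat.exists_eq_two_pow_mul_odd hn
  have hcop : Nat.Coprime (2 ^ a) m := Nat.Coprime.pow_left a (Nat.coprime_two_left.mpr hm)
  have hbez : ((2 ^ a : ℕ) : ℤ) * Nat.gcdA (2 ^ a) m + (m : ℤ) * Nat.gcdB (2 ^ a) m = 1 := by
    have := Nat.gcd_eq_gcd_ab (2 ^ a) m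
    rw [hcop.gcd_eq_one] at this
    simpa using this.symm
  have hs2 : ((x ^ m) ^ (Nat.gcdB (2 ^ a) m)) ^ (2 ^ a) = 1 := by
    rw [← zpow_natCast, ← zpow_mul, mul_comm, zpow_mul, zpow_natCast, ← pow_mul, mul_comm m,
      ← hnm, pow_orderOf_eq_one, one_zpow]
  have hbm : ((x ^ (2 ^ a)) ^ (Nat.gcdA (2 ^ a) m)) ^ m = 1 := by
    rw [← zpow_natCast, ← zpow_mul, mul_comm, zpow_mul, zpow_natCast, ← pow_mul,
      ← hnm, pow_orderOf_eq_one, one_zpow]
  have hsC : (x ^ m) ^ (Nat.gcdB (2 ^ a) m) ∈ Cz P := zpow_mem (pow_mem hx _) _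
  have hbC : (x ^ (2 ^ a)) ^ (Nat.gcdA (2 ^ a) m) ∈ Cz P := zpow_mem (pow_mem hx _) _
  refine ⟨(x ^ m) ^ (Nat.gcdB (2 ^ a) m),
    fix2_aux P _ (smul_eq_of_mem_Cz P hsC) ⟨a, hs2⟩,
    (x ^ (2 ^ a)) ^ (Nat.gcdA (2 ^ a) m),
    (memB_aux h P _).mpr ⟨hbC, Odd.of_dvd_nat hm (orderOf_dvd_of_pow_eq_one hbm)⟩, ?_⟩
  rw [← zpow_natCast x m, ← zpow_natCast x (2 ^ a), ← zpow_mul, ← zpow_mul, ← zpow_add,
    add_comm, hbez, zpow_one]

theorem ti_aux (h : Hyp G) (P Q : Sylow 2 G) (hQP : Q ≠ P) (x : G)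
    (hxP : x ∈ (P : Subgroup G)) (hxQ : x ∈ (Q : Subgroup G)) : x = 1 := by
  by_contra hx1
  obtain ⟨k, hk⟩ := sylow_pow P hxP
  obtain ⟨j, hj, hjo⟩ := (Nat.dvd_prime_pow Nat.prime_two).mp (orderOf_dvd_of_pow_eq_one hk)
  have hj0 : j ≠ 0 := by
    rintro rfl
    exact hx1 (orderOf_eq_one_iff.mp (by simpa using hjo))
  obtain ⟨i, rfl⟩ := Nat.exists_eq_succ_of_ne_zero hj0
  have hto : orderOf (x ^ (2 ^ i)) = 2 := by
    apply orderOf_eq_prime
    · rw [← pow_mul, ← pow_succ, ← hjo, pow_orderOf_eq_one]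
    · intro h1
      have h2 := orderOf_dvd_of_pow_eq_one h1
      rw [hjo] at h2
      have h3 := Nat.le_of_dvd (by positivity) h2
      have h4 : 0 < 2 ^ i := by positivity
      rw [pow_succ] at h3
      omega
  have htP : x ^ (2 ^ i) ∈ (P : Subgroup G) := pow_mem hxP _
  have htQ : x ^ (2 ^ i) ∈ (Q : Subgroup G) := pow_mem hxQ _
  have hC : Cz P = Cz Q := (cent_aux h P _ htP hto).symm.trans (cent_aux h Q _ htQ hto)
  have hPQ : (P : Subgroup G) ≤ Q := by
    intro p hp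
    have hpC : p ∈ Cz Q := hC ▸ (le_aux h P hp)
    exact fix2_aux Q p (smul_eq_of_mem_Cz Q hpC) (sylow_pow P hp)
  exact hQP (Sylow.ext (P.is_maximal' Q.isPGroup' hPQ))

theorem conjC_aux (P : Sylow 2 G) (g x : G) :
    x ∈ Cz (g • P) ↔ g⁻¹ * x * g ∈ Cz P := by
  unfold Cz
  rw [Subgroup.mem_centralizer_iff, Subgroup.mem_centralizer_iff]
  constructor
  · intro hx p hp
    have hy : g * p * g⁻¹ ∈ ((g • P : Sylow 2 G) : Subgroup G) := by
      rw [mem_smul_sylow]
      have : g⁻¹ * (g * p * g⁻¹) * g = p := by group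
      rw [this]; exact hp
    have h1 := hx (g * p * g⁻¹) hy
    calc p * (g⁻¹ * x * g) = g⁻¹ * ((g * p * g⁻¹) * x) * g := by group
      _ = g⁻¹ * (x * (g * p * g⁻¹)) * g := by rw [h1]
      _ = g⁻¹ * x * g * p := by group
  · intro hx y hy
    have hy' : g⁻¹ * y * g ∈ (P : Subgroup G) := (mem_smul_sylow g P y).mp hy
    have h1 := hx (g⁻¹ * y * g) hy'
    calc y * x = g * ((g⁻¹ * y * g) * (g⁻¹ * x * g)) * g⁻¹ := by group
      _ = g * ((g⁻¹ * x * g) * (g⁻¹ * y * g)) * g⁻¹ := by rw [h1]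
      _ = x * y := by group

theorem orderOf_conj_aux (g x : G) : orderOf (g⁻¹ * x * g) = orderOf x := by
  have h := (MulAut.conj g⁻¹).orderOf_eq x
  simpa [MulAut.conj_apply] using h

theorem conjB_aux (h : Hyp G) (P : Sylow 2 G) (g x : G) :
    x ∈ Bz (g • P) ↔ g⁻¹ * x * g ∈ Bz P := by
  rw [memB_aux h, memB_aux h, conjC_aux, orderOf_conj_aux]

theorem minv_aux (P Q : Sylow 2 G) : mInv Q = mInv P := by
  obtain ⟨g, rfl⟩ := MulAction.exists_smul_eq G P Q
  unfold mInv
  apply Nat.card_congr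
  refine Equiv.subtypeEquiv (MulAut.conj g⁻¹).toEquiv ?_
  intro t
  have : (MulAut.conj g⁻¹).toEquiv t = g⁻¹ * t * g := by simp [MulAut.conj_apply]
  rw [this, mem_smul_sylow, orderOf_conj_aux]

theorem three_aux (h : Hyp G) (P : Sylow 2 G) : 3 ≤ mInv P := by
  classical
  have hab := abelian_aux h P
  letI : CommGroup ↥(P : Subgroup G) :=
    { (inferInstance : Group ↥(P : Subgroup G)) with
      mul_comm := fun x y => Subtype.ext (hab x x.2 y y.2) }
  obtain ⟨p, hp, a, b, hap, hbp, hb1, hab'⟩ :=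
    Cfsg.Agent.Lib.Helper48.exists_rank_two (A := ↥(P : Subgroup G)) (h.ncyc P)
  -- the prime is 2
  have hp2 : p = 2 := by
    haveI : Fact p.Prime := ⟨hp⟩
    have hbo : orderOf b = p := orderOf_eq_prime hbp hb1
    obtain ⟨k, hk⟩ := P.isPGroup' b
    have hdvd : p ∣ 2 ^ k := hbo ▸ orderOf_dvd_of_pow_eq_one hk
    exact (Nat.prime_dvd_prime_iff_eq hp Nat.prime_two).mp (hp.dvd_of_dvd_pow hdvd)
  subst hp2
  have ha1 : a ≠ 1 := fun h1 => hab' (h1 ▸ one_mem _)
  have hane : a ≠ b := fun h1 => hab' (h1 ▸ Subgroup.mem_zpowers b)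
  have hoa : orderOf (a : G) = 2 := by
    rw [Subgroup.orderOf_coe]; exact orderOf_eq_prime hap ha1
  have hob : orderOf (b : G) = 2 := by
    rw [Subgroup.orderOf_coe]; exact orderOf_eq_prime hbp hb1
  have hbb : b * b = 1 := by rw [← pow_two]; exact hbp
  have hab1 : a * b ≠ 1 := by
    intro h1
    apply hane
    calc a = a * (b * b) := by rw [hbb, mul_one]
      _ = (a * b) * b := by rw [mul_assoc]
      _ = b := by rw [h1, one_mul]
  have hoab : orderOf ((a * b : ↥(P : Subgroup G)) : G) = 2 := by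
    rw [Subgroup.orderOf_coe]
    apply orderOf_eq_prime _ hab1
    rw [mul_pow, hap, hbp, one_mul]
  haveI : Fintype G := Fintype.ofFinite G
  have hm : mInv P =
      (Finset.univ.filter (fun t : G => t ∈ (P : Subgroup G) ∧ orderOf t = 2)).card := by
    unfold mInv
    rw [Nat.card_eq_fintype_card, Fintype.card_subtype]
  rw [hm]
  have hsub : ({(a : G), (b : G), ((a * b : ↥(P : Subgroup G)) : G)} : Finset G) ⊆
      Finset.univ.filter (fun t : G => t ∈ (P : Subgroup G) ∧ orderOf t = 2) := by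
    intro z hz
    simp only [Finset.mem_insert, Finset.mem_singleton] at hz
    rw [Finset.mem_filter]
    rcases hz with rfl | rfl | rfl
    · exact ⟨Finset.mem_univ _, a.2, hoa⟩
    · exact ⟨Finset.mem_univ _, b.2, hob⟩
    · exact ⟨Finset.mem_univ _, (a * b).2, hoab⟩
  have hc3 : ({(a : G), (b : G), ((a * b : ↥(P : Subgroup G)) : G)} : Finset G).card = 3 := by
    refine Finset.card_eq_three.mpr ⟨_, _, _, ?_, ?_, ?_, rfl⟩
    · exact fun h1 => hane (Subtype.ext h1)
    · intro h1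
      have h2 : a = a * b := Subtype.ext h1
      exact hb1 (by simpa using h2.symm)
    · intro h1
      have h2 : b = a * b := Subtype.ext h1
      exact ha1 (by simpa using h2.symm)
  calc 3 = _ := hc3.symm
    _ ≤ _ := Finset.card_le_card hsub

end basic

/-- [BASIC] -/
theorem pkgBasic : PkgBasic.{u} := by
  intro G _ _ h P
  exact
    { comm := comm_aux h P
      le := le_aux h P
      cent := cent_aux h P
      memB := memB_aux h P
      split := split_aux h P
      ti := fun Q hQ x hxP hxQ => ti_aux h P Q hQ x hxP hxQ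
      fix2 := fix2_aux P
      conjB := conjB_aux h P
      conjC := conjC_aux P
      three := three_aux h P
      minv := fun Q => minv_aux P Q }

end Cfsg.Agent.Lib.Helper43.CAI
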